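import Groth.Agent.PullStalk.Sky
import Mathlib.Algebra.Homology.ShortComplex.Ab
import Mathlib.Algebra.Homology.ShortComplex.ExactFunctor
import Mathlib.Topology.Sheaves.Stalks
import Mathlib.LinearAlgebra.Quotient.Basic
import Mathlib.CategoryTheory.Limits.FunctorCategory.Basic
import Mathlib.CategoryTheory.Limits.Preserves.Finite
import Mathlib.CategoryTheory.Preadditive.AdditiveFunctor
import Mathlib.CategoryTheory.Limits.Preserves.FunctorCategory
import Mathlib.CategoryTheory.Abelian.Exact

/-!
# Stalks of short exact sequences of sheaves of modules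

`stalkLin φ x`: the linear map on stalks; `stalk_injective`, `stalk_surjective`, `stalk_exact`.
-/

universe u

open CategoryTheory AlgebraicGeometry TopologicalSpace Opposite

namespace Groth.Agent.PullStalk.Exact

open Groth.Agent.PullStalk.Sky

variable {X : Scheme.{u}} {M N : X.Modules}

/-- The linear map induced on stalks by a morphism of modules. -/
noncomputable def stalkLin (φ : M ⟶ N) (x : X) :
    M.presheaf.stalk x →ₗ[X.presheaf.stalk x] N.presheaf.stalk x where
  toFun := (TopCat.Presheaf.stalkFunctor Ab x).map φ.mapPresheaf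
  map_add' := map_add ((TopCat.Presheaf.stalkFunctor Ab x).map φ.mapPresheaf).hom
  map_smul' r t := by
    obtain ⟨U, hx, m, rfl⟩ := exists_germM_eq M x t
    obtain ⟨V, hxV, r, rfl⟩ := X.presheaf.exists_germ_eq (x := x) r
    have hW : x ∈ U ⊓ V := ⟨hx, hxV⟩
    rw [← X.presheaf.germ_res_apply (homOfLE (inf_le_right : U ⊓ V ≤ V)) x hW r,
      show germM M U x hx m = germM M (U ⊓ V) x hW (M.presheaf.map (homOfLE (inf_le_left : U ⊓ V ≤ U)).op m)
        from (M.presheaf.germ_res_apply (homOfLE (inf_le_left : U ⊓ V ≤ U)) x hW m).symm,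
      ← germM_smul]
    refine (TopCat.Presheaf.stalkFunctor_map_germ_apply (U ⊓ V) x hW φ.mapPresheaf _).trans ?_
    refine Eq.trans ?_ (congrArg _
      (TopCat.Presheaf.stalkFunctor_map_germ_apply (U ⊓ V) x hW φ.mapPresheaf _).symm)
    refine Eq.trans ?_ (germM_smul N (U ⊓ V) x hW _ _)
    exact congrArg _ (Scheme.Modules.Hom.app_smul φ _ _)

lemma stalkLin_germ (φ : M ⟶ N) (U : X.Opens) (x : X) (hx : x ∈ U) (m : Γ(M, U)) :
    stalkLin φ x (germM M U x hx m) = germM N U x hx (φ.app U m) :=
  TopCat.Presheaf.stalkFunctor_map_germ_apply U x hx φ.mapPresheaf m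

/-- An epimorphism is surjective on stalks. -/
theorem stalk_surjective (φ : M ⟶ N) [Epi φ] (x : X) : Function.Surjective (stalkLin φ x) := by
  rw [← LinearMap.range_eq_top]
  by_contra hne
  obtain ⟨t, ht⟩ : ∃ t, t ∉ LinearMap.range (stalkLin φ x) := by
    simpa [Submodule.eq_top_iff'] using hne
  have : φ ≫ toSky (LinearMap.range (stalkLin φ x)).mkQ = φ ≫ toSky 0 := by
    ext U m
    funext h
    change (LinearMap.range (stalkLin φ x)).mkQ (germM N U x h.down (φ.app U m)) = 0
    rw [← stalkLin_germ φ U x h.down m]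
    simp
  rw [cancel_epi] at this
  obtain ⟨U, hx, m, rfl⟩ := exists_germM_eq N x t
  have h0 : (LinearMap.range (stalkLin φ x)).mkQ (germM N U x hx m) = 0 :=
    congr_fun (congrArg (fun ψ => Scheme.Modules.Hom.app ψ U m) this) ⟨hx⟩
  exact ht ((Submodule.Quotient.mk_eq_zero _).mp h0)

/-- Left exactness on sections of a short exact sequence of modules. -/
theorem sections_exact {S : ShortComplex X.Modules} (hS : S.ShortExact) (U : X.Opens) :
    Function.Exact (S.f.app U) (S.g.app U) ∧ Function.Injective (S.f.app U) := by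
  let F := Scheme.Modules.toPresheaf X ⋙ (evaluation _ _).obj (op U)
  have : Limits.PreservesFiniteLimits ((evaluation (Opens ↥X)ᵒᵖ Ab.{u}).obj (op U)) :=
    ⟨fun J _ _ => inferInstance⟩
  have : Limits.PreservesFiniteLimits F := Limits.comp_preservesFiniteLimits _ _
  have : Mono S.f := hS.mono_f
  have : F.Additive := Functor.additive_of_preserves_binary_products (F := F)
  obtain ⟨h1, h2⟩ : (S.map F).Exact ∧ Mono (F.map S.f) :=
    ((List.TFAE.out (Functor.preservesFiniteLimits_tfae F) 3 1 rfl rfl).mp (by assumption)) S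
      ⟨hS.exact, inferInstance⟩
  exact ⟨(ShortComplex.ab_exact_iff_function_exact _).mp h1, (AddCommGrpCat.mono_iff_injective _).mp h2⟩

/-- A short exact sequence of modules gives short exact sequences on stalks. -/
theorem stalk_exact {S : ShortComplex X.Modules} (hS : S.ShortExact) (x : X) :
    Function.Injective (stalkLin S.f x) ∧ Function.Exact (stalkLin S.f x) (stalkLin S.g x) ∧
      Function.Surjective (stalkLin S.g x) := by
  have : Epi S.g := hS.epi_g
  refine ⟨?_, ?_, stalk_surjective S.g x⟩
  · exact TopCat.Presheaf.stalkFunctor_map_injective_of_app_injective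
      (F := S.X₁.presheaf) (G := S.X₂.presheaf) (f := S.f.mapPresheaf)
      (fun U => (sections_exact hS U).2) x
  · intro t
    obtain ⟨U, hx, m, rfl⟩ := exists_germM_eq S.X₂ x t
    constructor
    · intro h
      rw [stalkLin_germ] at h
      obtain ⟨W, hxW, iU, iV, e⟩ := S.X₃.presheaf.germ_eq x hx hx (S.g.app U m) 0
        (h.trans (map_zero (S.X₃.presheaf.germ U x hx).hom).symm)
      have hz : S.g.app W (S.X₂.presheaf.map iU.op m) = 0 := by
        refine ((NatTrans.naturality_apply S.g.mapPresheaf iU.op m).trans ?_)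
        exact e.trans (map_zero _)
      obtain ⟨m', hm'⟩ := ((sections_exact hS W).1 _).mp hz
      refine ⟨germM S.X₁ W x hxW m', ?_⟩
      rw [stalkLin_germ, hm']
      exact S.X₂.presheaf.germ_res_apply iU x hxW m
    · rintro ⟨t', ht'⟩
      obtain ⟨W, hxW, m', rfl⟩ := exists_germM_eq S.X₁ x t'
      rw [← ht', stalkLin_germ, stalkLin_germ]
      refine (congrArg (germM S.X₃ W x hxW) ?_).trans (map_zero (S.X₃.presheaf.germ W x hxW).hom)
      exact congrArg (fun ψ => Scheme.Modules.Hom.app ψ W m') S.zero

end Groth.Agent.PullStalk.Exact
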