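import Groth.Agent.PullStalk.Sky
import Mathlib.RingTheory.IsTensorProduct

/-!
# Stalks of the pullback of a sheaf of modules

For `f : X ⟶ Y`, `M : Y.Modules` and `x : X`, the unit map `unitStalk f M x : M_{f x} → (f^*M)_x`
exhibits `(f^*M)_x` as the base change of `M_{f x}` along `f.stalkMap x` (`isBaseChange_unitStalk`).
-/

universe u

open CategoryTheory AlgebraicGeometry TopologicalSpace Opposite

namespace Groth.Agent.PullStalk.Basic

open Groth.Agent.PullStalk.Sky

variable {X Y : Scheme.{u}} (f : X ⟶ Y)

/-- The unit `M ⟶ f_* f^* M` followed by the germ at `x`, on sections. -/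
noncomputable def unitGerm (M : Y.Modules) (x : X) (U : Y.Opens) (hx : f x ∈ U) :
    Γ(M, U) →+ ((Scheme.Modules.pullback f).obj M).presheaf.stalk x :=
  (((Scheme.Modules.pullback f).obj M).presheaf.germ (f ⁻¹ᵁ U) x hx).hom.comp
    (((Scheme.Modules.pullbackPushforwardAdjunction f).unit.app M).app U).hom

/-- The map `M_{f x} → (f^* M)_x` induced by the unit. -/
noncomputable def unitStalkHom (M : Y.Modules) (x : X) :
    M.presheaf.stalk (f x) ⟶ ((Scheme.Modules.pullback f).obj M).presheaf.stalk x :=
  Limits.colimit.desc _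
    { pt := ((Scheme.Modules.pullback f).obj M).presheaf.stalk x
      ι :=
        { app := fun U => AddCommGrpCat.ofHom (unitGerm f M x U.unop.1 U.unop.2)
          naturality := fun {U V} i => by
            ext m
            change unitGerm f M x V.unop.1 V.unop.2
                (M.presheaf.map ((OpenNhds.inclusion (f x)).map i.unop).op m) =
              unitGerm f M x U.unop.1 U.unop.2 m
            refine Eq.trans (congrArg
              (((Scheme.Modules.pullback f).obj M).presheaf.germ (f ⁻¹ᵁ V.unop.1) x V.unop.2)
              (NatTrans.naturality_apply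
                ((Scheme.Modules.pullbackPushforwardAdjunction f).unit.app M).mapPresheaf
                ((OpenNhds.inclusion (f x)).map i.unop).op m)) ?_
            exact ((Scheme.Modules.pullback f).obj M).presheaf.germ_res_apply
              ((Opens.map f.base).map ((OpenNhds.inclusion (f x)).map i.unop)) x V.unop.2 _ } }

lemma unitStalkHom_germ (M : Y.Modules) (x : X) (U : Y.Opens) (hx : f x ∈ U) (m : Γ(M, U)) :
    unitStalkHom f M x (germM M U (f x) hx m) =
      germM ((Scheme.Modules.pullback f).obj M) (f ⁻¹ᵁ U) x hx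
        (((Scheme.Modules.pullbackPushforwardAdjunction f).unit.app M).app U m) := by
  exact (ConcreteCategory.congr_hom ((Limits.colimit.ι_desc
    (F := (OpenNhds.inclusion (f x)).op ⋙ M.presheaf) _ (op (⟨U, hx⟩ : OpenNhds (f x))))) m :)

lemma unitStalkHom_smul (M : Y.Modules) (x : X) (r : Y.presheaf.stalk (f x))
    (t : M.presheaf.stalk (f x)) :
    unitStalkHom f M x (r • t) = f.stalkMap x r • unitStalkHom f M x t := by
  obtain ⟨U, hx, m, rfl⟩ := exists_germM_eq M (f x) t
  obtain ⟨V, hxV, r, rfl⟩ := Y.presheaf.exists_germ_eq (x := f x) r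
  have hW : f x ∈ U ⊓ V := ⟨hx, hxV⟩
  rw [← Y.presheaf.germ_res_apply (homOfLE (inf_le_right : U ⊓ V ≤ V)) (f x) hW r,
    show germM M U (f x) hx m =
      germM M (U ⊓ V) (f x) hW (M.presheaf.map (homOfLE (inf_le_left : U ⊓ V ≤ U)).op m)
      from (M.presheaf.germ_res_apply (homOfLE (inf_le_left : U ⊓ V ≤ U)) (f x) hW m).symm,
    ← germM_smul, unitStalkHom_germ, unitStalkHom_germ, Scheme.Hom.germ_stalkMap_apply]
  refine Eq.trans ?_ (germM_smul _ _ _ _ _ _)
  exact congrArg _ (Scheme.Modules.Hom.app_smul _ _ _)

/-- `(f^* M)_x` as an `O_{Y, f x}`-module. -/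
noncomputable abbrev moduleOver (M : Y.Modules) (x : X) :
    Module (Y.presheaf.stalk (f x)) (((Scheme.Modules.pullback f).obj M).presheaf.stalk x) :=
  FlatMod.moduleStalkOver f ((Scheme.Modules.pullback f).obj M) x

/-- The unit on stalks, as a linear map over `O_{Y, f x}`. -/
noncomputable def unitStalk (M : Y.Modules) (x : X) :
    letI := moduleOver f M x
    M.presheaf.stalk (f x) →ₗ[Y.presheaf.stalk (f x)]
      ((Scheme.Modules.pullback f).obj M).presheaf.stalk x :=
  letI := moduleOver f M x
  { toFun := unitStalkHom f M x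
    map_add' := map_add (unitStalkHom f M x).hom
    map_smul' := unitStalkHom_smul f M x }

section

variable (x : X) (N : Type u) [AddCommGroup N] [Module (X.presheaf.stalk x) N]

variable {x N} in
lemma hom_eq_of_unitStalk {M : Y.Modules}
    (h₁ h₂ : ((Scheme.Modules.pullback f).obj M).presheaf.stalk x →ₗ[X.presheaf.stalk x] N)
    (h : ∀ t, h₁ (unitStalkHom f M x t) = h₂ (unitStalkHom f M x t)) : h₁ = h₂ := by
  have key : toSky h₁ = toSky h₂ := by
    refine ((Scheme.Modules.pullbackPushforwardAdjunction f).homEquiv M (sky x N)).injective ?_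
    rw [Adjunction.homEquiv_unit, Adjunction.homEquiv_unit]
    ext U m
    funext hx
    exact (congrArg h₁ (unitStalkHom_germ f M x U hx.down m)).symm.trans
      ((h _).trans (congrArg h₂ (unitStalkHom_germ f M x U hx.down m)))
  refine LinearMap.ext fun t => ?_
  obtain ⟨U, hx, m, rfl⟩ := exists_germM_eq _ x t
  exact congr_fun (congrArg (fun ψ => Scheme.Modules.Hom.app ψ U m) key) ⟨hx⟩

end

/-- The stalk of the pullback is the base change of the stalk. -/
theorem isBaseChange_unitStalk (M : Y.Modules) (x : X) :
    letI := (f.stalkMap x).hom.toAlgebra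
    letI := moduleOver f M x
    haveI : IsScalarTower (Y.presheaf.stalk (f x)) (X.presheaf.stalk x)
        (((Scheme.Modules.pullback f).obj M).presheaf.stalk x) :=
      IsScalarTower.of_algebraMap_smul fun _ _ => rfl
    IsBaseChange (X.presheaf.stalk x) (unitStalk f M x) := by
  let := (f.stalkMap x).hom.toAlgebra
  let := moduleOver f M x
  have : IsScalarTower (Y.presheaf.stalk (f x)) (X.presheaf.stalk x)
        (((Scheme.Modules.pullback f).obj M).presheaf.stalk x) :=
      IsScalarTower.of_algebraMap_smul fun _ _ => rfl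
  refine IsBaseChange.of_lift_unique _ ?_
  intro Q _ _ _ _ g
  let : AddCommGroup Q := Module.addCommMonoidToAddCommGroup (X.presheaf.stalk x)
  have hsmul : ∀ (r : Y.presheaf.stalk (f x)) (q : Q),
      f.stalkMap x r • q = r • q := fun r q => IsScalarTower.algebraMap_smul _ r q
  let gS : M ⟶ (Scheme.Modules.pushforward f).obj (sky x Q) :=
    ⟨PresheafOfModules.homMk
      { app := fun U => AddCommGrpCat.ofHom
          (AddMonoidHom.mk' (G := PLift (f x ∈ U.unop) → Q)
            (fun (m : Γ(M, U.unop)) h => g (germM M U.unop (f x) h.down m)) fun a b => by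
              funext h
              exact (congrArg g
                (map_add (M.presheaf.germ U.unop (f x) h.down).hom a b)).trans (map_add g _ _))
        naturality := fun {U V} i => by
          ext m
          funext h
          exact congrArg g (M.presheaf.germ_res_apply i.unop (f x) h.down m) }
      (fun U r m => by
        funext h
        refine (congrArg g (germM_smul M U.unop (f x) h.down r m)).trans ?_
        refine (map_smul g (Y.presheaf.germ U.unop (f x) h.down r) _).trans ?_
        refine (hsmul _ _).symm.trans ?_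
        exact congrArg (fun s : X.presheaf.stalk x => s • g (germM M U.unop (f x) h.down m))
          (f.germ_stalkMap_apply U.unop x h.down r))⟩
  let ψ := ((Scheme.Modules.pullbackPushforwardAdjunction f).homEquiv M (sky x Q)).symm gS
  have hψ : (Scheme.Modules.pullbackPushforwardAdjunction f).unit.app M ≫
      (Scheme.Modules.pushforward f).map ψ = gS := by
    exact (Adjunction.homEquiv_unit _ _ _ _).symm.trans (Equiv.apply_symm_apply _ _)
  have hg : ∀ t, ofSky ψ (unitStalkHom f M x t) = g t := by
    intro t
    obtain ⟨U, hx, m, rfl⟩ := exists_germM_eq M (f x) t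
    rw [unitStalkHom_germ]
    refine (ofSky_germ ψ (f ⁻¹ᵁ U) hx _).trans ?_
    exact congr_fun (congrArg (fun φ => Scheme.Modules.Hom.app φ U m) hψ) ⟨hx⟩
  refine ⟨ofSky ψ, LinearMap.ext hg, fun h hh => ?_⟩
  exact hom_eq_of_unitStalk f _ _ fun t => (LinearMap.congr_fun hh t).trans (hg t).symm

end Groth.Agent.PullStalk.Basic
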