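import Mathlib.AlgebraicGeometry.Modules.Sheaf
import Mathlib.AlgebraicGeometry.Stalk
import Mathlib.Algebra.Category.ModuleCat.Stalk
import Mathlib.Topology.Sheaves.SheafCondition.UniqueGluing
import Groth.Prelude.Def_FlatMod2

/-!
# Skyscraper modules on a scheme

`sky x N` for a module `N` over `O_{X,x}`; morphisms `M ⟶ sky x N` are linear maps `M_x → N`
(`toSky`, `ofSky`).
-/

universe u

open CategoryTheory AlgebraicGeometry TopologicalSpace Opposite

namespace Groth.Agent.PullStalk.Sky

variable {X : Scheme.{u}}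

/-- The germ of a section of an `O_X`-module. -/
noncomputable abbrev germM (M : X.Modules) (U : X.Opens) (x : X) (hx : x ∈ U) (m : Γ(M, U)) :
    ↑(TopCat.Presheaf.stalk M.presheaf x) :=
  M.presheaf.germ U x hx m

lemma germM_smul (M : X.Modules) (U : X.Opens) (x : X) (hx : x ∈ U) (r : Γ(X, U)) (m : Γ(M, U)) :
    germM M U x hx (r • m) = X.presheaf.germ U x hx r • germM M U x hx m :=
  PresheafOfModules.germ_smul (R := X.presheaf) M.val x U hx r m

lemma exists_germM_eq (M : X.Modules) (x : X) (t : ↑(TopCat.Presheaf.stalk M.presheaf x)) :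
    ∃ (U : X.Opens) (hx : x ∈ U) (m : Γ(M, U)), germM M U x hx m = t := by
  obtain ⟨U, hx, m, hm⟩ := M.presheaf.exists_germ_eq (x := x) t
  exact ⟨U, hx, m, hm⟩

variable (x : X) (N : Type u) [AddCommGroup N] [Module (X.presheaf.stalk x) N]

/-- The abelian presheaf `U ↦ (x ∈ U → N)`. -/
@[simps] noncomputable def skyAb : TopCat.Presheaf Ab.{u} X where
  obj U := AddCommGrpCat.of (PLift (x ∈ U.unop) → N)
  map {U V} i := AddCommGrpCat.ofHom
    { toFun := fun g h => g ⟨leOfHom i.unop h.down⟩
      map_zero' := rfl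
      map_add' := fun _ _ => rfl }

noncomputable instance skyModule (U : X.Opensᵒᵖ) :
    Module (X.ringCatSheaf.obj.obj U) ((skyAb x N).obj U) :=
  letI : ∀ _ : PLift (x ∈ U.unop), Module Γ(X, U.unop) N := fun h =>
    Module.compHom N (X.presheaf.germ U.unop x h.down).hom
  inferInstanceAs (Module Γ(X, U.unop) (PLift (x ∈ U.unop) → N))

lemma skyModule_smul_apply (U : X.Opens) (r : Γ(X, U)) (g : PLift (x ∈ U) → N) (h : PLift (x ∈ U)) :
    HSMul.hSMul (α := X.ringCatSheaf.obj.obj (op U)) (β := (skyAb x N).obj (op U)) r g h =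
      X.presheaf.germ U x h.down r • g h := rfl

lemma skyAb_isSheaf : TopCat.Presheaf.IsSheaf (skyAb x N) := by
  rw [TopCat.Presheaf.isSheaf_iff_isSheafUniqueGluing]
  intro ι U sf hsf
  classical
  have hex : ∀ h : PLift (x ∈ iSup U), ∃ i, x ∈ U i := fun h => Opens.mem_iSup.mp h.down
  refine ⟨fun h => sf (hex h).choose ⟨(hex h).choose_spec⟩, fun i => ?_, fun g hg => ?_⟩
  · funext h
    have hi : x ∈ U i := h.down
    let j := (hex ⟨Opens.mem_iSup.mpr ⟨i, hi⟩⟩).choose
    have hj : x ∈ U j := (hex ⟨Opens.mem_iSup.mpr ⟨i, hi⟩⟩).choose_spec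
    exact congr_fun (hsf j i) ⟨⟨hj, hi⟩⟩
  · funext h
    exact congr_fun (hg (hex h).choose) ⟨(hex h).choose_spec⟩

/-- The skyscraper module at `x` with value `N`. -/
noncomputable def sky : X.Modules :=
  ⟨PresheafOfModules.ofPresheaf (R := X.ringCatSheaf.obj) (skyAb x N)
    (fun {U V} i r g => by
      funext h
      exact congrArg (fun s : X.presheaf.stalk x => s • (show N from g ⟨leOfHom i.unop h.down⟩))
        (X.presheaf.germ_res_apply i.unop x h.down r).symm),
    skyAb_isSheaf x N⟩

variable {x N}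

/-- The component on `U` of the morphism attached to a linear map on the stalk. -/
noncomputable def appHom {M : X.Modules} (φ : M.presheaf.stalk x →ₗ[X.presheaf.stalk x] N)
    (U : X.Opens) : Γ(M, U) →+ (PLift (x ∈ U) → N) :=
  AddMonoidHom.mk' (fun m h => φ (germM M U x h.down m)) fun a b => by
    funext h
    simp only [germM, map_add, Pi.add_apply]

/-- A linear map on the stalk gives a morphism to the skyscraper module. -/
noncomputable def toSky {M : X.Modules} (φ : M.presheaf.stalk x →ₗ[X.presheaf.stalk x] N) :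
    M ⟶ sky x N :=
  ⟨PresheafOfModules.homMk
    { app := fun U => AddCommGrpCat.ofHom (appHom φ U.unop)
      naturality := fun {U V} i => by
        ext m
        funext h
        exact congrArg φ (M.presheaf.germ_res_apply i.unop x h.down m) }
    (fun U r m => by
      funext h
      exact (congrArg φ (germM_smul M U.unop x h.down r m)).trans
        (map_smul φ (X.presheaf.germ U.unop x h.down r) _))⟩

lemma toSky_app {M : X.Modules} (φ : M.presheaf.stalk x →ₗ[X.presheaf.stalk x] N) (U : X.Opens)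
    (m : Γ(M, U)) (h : PLift (x ∈ U)) :
    (show PLift (x ∈ U) → N from (toSky φ).app U m) h = φ (germM M U x h.down m) := rfl

variable {M : X.Modules}

/-- Evaluation at `x` of a morphism to the skyscraper, on sections. -/
noncomputable def evalSky (ψ : M ⟶ sky x N) (U : X.Opens) (hx : x ∈ U) : Γ(M, U) →+ N :=
  (Pi.evalAddMonoidHom (fun _ : PLift (x ∈ U) => N) ⟨hx⟩).comp (ψ.app U).hom

/-- A morphism to the skyscraper module gives an additive map on the stalk. -/
noncomputable def ofSkyAdd (ψ : M ⟶ sky x N) : M.presheaf.stalk x ⟶ AddCommGrpCat.of N :=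
  Limits.colimit.desc _
    { pt := AddCommGrpCat.of N
      ι :=
        { app := fun U => AddCommGrpCat.ofHom (evalSky ψ U.unop.1 U.unop.2)
          naturality := fun {U V} i => by
            ext m
            exact congr_fun (NatTrans.naturality_apply ψ.mapPresheaf
              ((OpenNhds.inclusion x).map i.unop).op m) ⟨V.unop.2⟩ } }

lemma ofSkyAdd_germ (ψ : M ⟶ sky x N) (U : X.Opens) (hx : x ∈ U) (m : Γ(M, U)) :
    ofSkyAdd ψ (germM M U x hx m) = evalSky ψ U hx m := by
  refine (ConcreteCategory.congr_hom ((Limits.colimit.ι_desc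
    (F := (OpenNhds.inclusion x).op ⋙ M.presheaf) _ (op (⟨U, hx⟩ : OpenNhds x)))) m :)

/-- A morphism to the skyscraper module gives a linear map on the stalk. -/
noncomputable def ofSky (ψ : M ⟶ sky x N) : M.presheaf.stalk x →ₗ[X.presheaf.stalk x] N where
  toFun := ofSkyAdd ψ
  map_add' := map_add (ofSkyAdd ψ).hom
  map_smul' r t := by
    obtain ⟨U, hx, m, rfl⟩ := exists_germM_eq M x t
    obtain ⟨V, hxV, r, rfl⟩ := X.presheaf.exists_germ_eq (x := x) r
    have hW : x ∈ U ⊓ V := ⟨hx, hxV⟩
    rw [← X.presheaf.germ_res_apply (homOfLE (inf_le_right : U ⊓ V ≤ V)) x hW r,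
      show germM M U x hx m = germM M (U ⊓ V) x hW (M.presheaf.map (homOfLE (inf_le_left : U ⊓ V ≤ U)).op m)
        from (M.presheaf.germ_res_apply (homOfLE (inf_le_left : U ⊓ V ≤ U)) x hW m).symm,
      ← germM_smul, ofSkyAdd_germ]
    refine Eq.trans ?_ (congrArg (_ • ·) (ofSkyAdd_germ ψ (U ⊓ V) hW _)).symm
    exact congr_fun (Scheme.Modules.Hom.app_smul ψ _ _) ⟨hW⟩

lemma ofSky_germ (ψ : M ⟶ sky x N) (U : X.Opens) (hx : x ∈ U) (m : Γ(M, U)) :
    ofSky ψ (germM M U x hx m) = (show PLift (x ∈ U) → N from ψ.app U m) ⟨hx⟩ :=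
  ofSkyAdd_germ ψ U hx m

lemma toSky_ofSky (ψ : M ⟶ sky x N) : toSky (ofSky ψ) = ψ := by
  ext U m
  funext h
  exact (toSky_app _ U m h).trans (ofSky_germ ψ U h.down m)

end Groth.Agent.PullStalk.Sky
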